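import Groth.Agent.PullbackMod.FibreRank
import Groth.Agent.PullbackMod.LocFree
import Mathlib.RingTheory.LocalRing.Module

/-! Locally free modules of constant rank are free near finite subsets of affines. -/

set_option autoImplicit false
set_option backward.isDefEq.respectTransparency false
set_option backward.defeqAttrib.useBackward true
set_option linter.style.haveILetI false

universe u

open CategoryTheory CategoryTheory.Limits AlgebraicGeometry TopologicalSpace Opposite
open Groth.Agent.CohBase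
open scoped TensorProduct

namespace Groth.Agent.FreeFiniteLib

variable {X : Scheme.{u}}

/-- A localization away from finitely many primes is semilocal. -/
theorem finite_maximalSpectrum {A T : Type u} [CommRing A] [CommRing T] [Algebra A T] {ι : Type*} [Finite ι]
    (p : ι → Ideal A) (hp : ∀ i, (p i).IsPrime) (S : Submonoid A) (hS : ∀ a, a ∈ S ↔ ∀ i, a ∉ p i)
    [IsLocalization S T] : Finite (MaximalSpectrum T) := by
  classical
  cases nonempty_fintype ι
  have key : ∀ Q : MaximalSpectrum T, ∃ i, Q.asIdeal.comap (algebraMap A T) = p i := fun Q => by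
    haveI := Q.isMaximal
    have hd : Disjoint (S : Set A) (Q.asIdeal.comap (algebraMap A T) : Set A) :=
      ((IsLocalization.isPrime_iff_isPrime_disjoint S T Q.asIdeal).1 Q.isMaximal.isPrime).2
    have hsub : (Q.asIdeal.comap (algebraMap A T) : Set A) ⊆ ⋃ i ∈ ((Finset.univ : Finset ι) : Set ι), (p i : Set A) := by
      intro a ha
      by_contra h
      exact Set.disjoint_left.1 hd ((hS a).2 fun i hi => h (Set.mem_biUnion (by simp) hi)) ha
    rcases isEmpty_or_nonempty ι with hι | hι
    · exact absurd (hsub (Ideal.zero_mem _)) (by simp)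
    obtain ⟨i₀⟩ := hι
    obtain ⟨i, -, hi⟩ := (Ideal.subset_union_prime i₀ i₀ fun i _ _ _ => hp i).1 hsub
    refine ⟨i, le_antisymm hi fun a ha => ?_⟩
    haveI := hp i
    have hdi : Disjoint (S : Set A) (p i : Set A) := Set.disjoint_left.2 fun b hb hb' => (hS b).1 hb i hb'
    have hP : (Ideal.map (algebraMap A T) (p i)).IsPrime := IsLocalization.isPrime_of_isPrime_disjoint S T (p i) (hp i) hdi
    have hle : Q.asIdeal ≤ Ideal.map (algebraMap A T) (p i) := by
      rw [← IsLocalization.map_comap S T Q.asIdeal]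
      exact Ideal.map_mono hi
    have heq := Q.isMaximal.eq_of_le hP.ne_top hle
    rw [Ideal.mem_comap, heq]
    exact Ideal.mem_map_of_mem _ ha
  choose f hf using key
  exact Finite.of_injective f fun Q Q' h => MaximalSpectrum.ext (by
    have e : Q.asIdeal.comap (algebraMap A T) = Q'.asIdeal.comap (algebraMap A T) := by rw [hf, hf, h]
    have := congrArg (Ideal.map (algebraMap A T)) e
    rwa [IsLocalization.map_comap S T, IsLocalization.map_comap S T] at this)

attribute [local instance] RingHomInvPair.of_ringEquiv in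
/-- A module locally free of rank `r` is free of rank `r` near a finite subset of an affine open. -/
theorem exists_free_nhd_finite (M : X.Modules) {r : ℕ} (hM : FlatMod.IsFinLocFreeOfRank r M)
    {W : X.Opens} (hW : IsAffineOpen W) {Z : Set X} (hZ : Z.Finite) (hZW : Z ⊆ W) :
    ∃ U : X.Opens, Z ⊆ U ∧ U ≤ W ∧ Nonempty (M.restrict U.ι ≅ FlatMod.freeMod (↑U) r) := by
  classical
  have hM' : FlatMod.IsFinLocFree M := fun x => by
    obtain ⟨U, hxU, h⟩ := hM x
    exact ⟨U, r, hxU, h⟩
  haveI := (PullbackMod.isQCoh_and_isFP_of_isFinLocFree M hM').1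
  have hFP := (PullbackMod.isQCoh_and_isFP_of_isFinLocFree M hM').2
  have hfree : ∀ x, PullbackMod.FreeAt r M x := fun x => by
    obtain ⟨U, hxU, ⟨i⟩⟩ := hM x
    exact PullbackMod.freeAt_of_restrict_iso M i hxU
  rcases Z.eq_empty_or_nonempty with rfl | ⟨z₀, hz₀⟩
  · haveI : Subsingleton Γ(X, ⊥) := CommRingCat.subsingleton_of_isTerminal X.sheaf.isTerminalOfEmpty
    haveI : Subsingleton Γ(M, ⊥) := Module.subsingleton Γ(X, ⊥) _
    refine ⟨⊥, Set.empty_subset _, bot_le, FlatLocus.nonempty_iso_freeMod M (isAffineOpen_bot X) r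
      (LinearEquiv.ofSubsingleton _ _)⟩
  haveI := QCohLib.finitePresentation_sections M hFP hW
  haveI : Module.Flat Γ(X, W) Γ(M, W) := PullbackMod.flat_sections_of_flat_stalks M hW fun x => by
    obtain ⟨e⟩ := hfree x
    haveI := Module.Free.of_equiv e.symm
    infer_instance
  let p : Z → Ideal Γ(X, W) := fun z => (hW.primeIdealOf ⟨z.1, hZW z.2⟩).asIdeal
  haveI : Finite Z := hZ.to_subtype
  let S : Submonoid Γ(X, W) := ⨅ z : Z, (p z).primeCompl
  have hS : ∀ a, a ∈ S ↔ ∀ z, a ∉ p z := fun a => by simp [S, Submonoid.mem_iInf, Ideal.mem_primeCompl_iff]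
  let T := Localization S
  haveI : Finite (MaximalSpectrum T) := finite_maximalSpectrum p (fun z => inferInstance) S hS
  let P := LocalizedModule S Γ(M, W)
  haveI : Module.Finite T P := Module.Finite.of_isLocalizedModule S (LocalizedModule.mkLinearMap S Γ(M, W))
  haveI : Module.Flat T P := Module.Flat.of_isLocalizedModule T S (LocalizedModule.mkLinearMap S Γ(M, W))
  haveI : Module.Free T P := Module.free_of_flat_of_finrank_eq T P r fun Q => by
    haveI := Q.isMaximal
    letI : Field (T ⧸ Q.asIdeal) := Ideal.Quotient.field _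
    let q := Q.asIdeal.comap (algebraMap Γ(X, W) T)
    have hrq : Module.finrank q.ResidueField (q.ResidueField ⊗[Γ(X, W)] Γ(M, W)) = r :=
      (PullbackMod.fibreRank_fromSpec M hW ⟨q, inferInstance⟩).trans (PullbackMod.fibreRank_eq_of_freeAt M (hfree _))
    let φ : q.ResidueField →+* (T ⧸ Q.asIdeal) := Ideal.ResidueField.lift q (algebraMap Γ(X, W) (T ⧸ Q.asIdeal))
      (fun a ha => by
        rw [RingHom.mem_ker, IsScalarTower.algebraMap_apply Γ(X, W) T (T ⧸ Q.asIdeal)]
        exact Ideal.Quotient.eq_zero_iff_mem.2 ha)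
      (fun a ha => by
        rw [Submonoid.mem_comap, IsUnit.mem_submonoid_iff]
        refine IsUnit.mk0 _ fun h => ha ?_
        rw [IsScalarTower.algebraMap_apply Γ(X, W) T (T ⧸ Q.asIdeal)] at h
        exact Ideal.mem_comap.2 (Ideal.Quotient.eq_zero_iff_mem.1 h))
    letI : Algebra q.ResidueField (T ⧸ Q.asIdeal) := φ.toAlgebra
    haveI : IsScalarTower Γ(X, W) q.ResidueField (T ⧸ Q.asIdeal) :=
      .of_algebraMap_eq fun a => (Ideal.ResidueField.lift_algebraMap _ _ _ _ a).symm
    rw [← hrq, ← Module.finrank_baseChange (R := T ⧸ Q.asIdeal) (S := q.ResidueField),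
      (TensorProduct.AlgebraTensorModule.cancelBaseChange Γ(X, W) q.ResidueField (T ⧸ Q.asIdeal)
        (T ⧸ Q.asIdeal) Γ(M, W)).finrank_eq]
    exact (((IsLocalizedModule.isBaseChange S T (LocalizedModule.mkLinearMap S Γ(M, W))).equiv.baseChange T (T ⧸ Q.asIdeal)).symm.trans
      (TensorProduct.AlgebraTensorModule.cancelBaseChange Γ(X, W) T (T ⧸ Q.asIdeal) (T ⧸ Q.asIdeal) Γ(M, W))).finrank_eq
  haveI : Nontrivial T := by
    refine (subsingleton_or_nontrivial T).resolve_left fun h => ?_
    have h0 : (0 : Γ(X, W)) ∈ S := (IsLocalization.subsingleton_iff (M := S) (S := T)).1 h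
    exact (hS 0).1 h0 ⟨z₀, hz₀⟩ (Ideal.zero_mem _)
  obtain ⟨a, ha, hafree, -⟩ := Module.FinitePresentation.exists_free_localizedModule_powers S
    (LocalizedModule.mkLinearMap S Γ(M, W)) T
  have hxa : ∀ z ∈ Z, z ∈ X.basicOpen a := fun z hz => by
    have h := SetLike.ext_iff.mp (hW.fromSpec_preimage_basicOpen a) (hW.primeIdealOf ⟨z, hZW hz⟩)
    rw [Scheme.Hom.mem_preimage, hW.fromSpec_primeIdealOf] at h
    exact h.mpr ((hS a).1 ha ⟨z, hz⟩)
  letI := Module.compHom Γ(M, X.basicOpen a)
    (X.presheaf.map (homOfLE (X.basicOpen_le a)).op).hom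
  letI : Algebra Γ(X, W) Γ(X, X.basicOpen a) :=
    (X.presheaf.map (homOfLE (X.basicOpen_le a)).op).hom.toAlgebra
  haveI : IsScalarTower Γ(X, W) Γ(X, X.basicOpen a) Γ(M, X.basicOpen a) :=
    .of_algebraMap_smul fun _ _ => rfl
  haveI := hW.isLocalization_basicOpen a
  obtain ⟨ρ, hr⟩ := QCohLib.exists_isLocalizedModule_res M hW a
  haveI := hr
  haveI : Module.Free Γ(X, X.basicOpen a) Γ(M, X.basicOpen a) := by
    let e₁ := IsLocalization.algEquiv (Submonoid.powers a) (Localization (Submonoid.powers a))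
      Γ(X, X.basicOpen a)
    refine (Module.Free.iff_of_equiv (σ := e₁.toRingEquiv) ?_).mp hafree
    refine { __ := IsLocalizedModule.iso (Submonoid.powers a) ρ, map_smul' := ?_ }
    intro c z
    obtain ⟨c, s, rfl⟩ := IsLocalization.exists_mk'_eq (Submonoid.powers a) c
    apply ((Module.End.isUnit_iff _).mp (IsLocalizedModule.map_units ρ s)).1
    simp [e₁, ← map_smul, ← smul_assoc]
  haveI : Module.Finite Γ(X, W) Γ(M, W) := inferInstance
  haveI : Module.Finite Γ(X, X.basicOpen a) Γ(M, X.basicOpen a) :=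
    Module.Finite.of_isLocalizedModule (Submonoid.powers a) ρ
  obtain ⟨n, hn⟩ : ∃ n, Nonempty (Γ(M, X.basicOpen a) ≃ₗ[Γ(X, X.basicOpen a)]
      (Fin n → Γ(X, X.basicOpen a))) := by
    let b := Module.Free.chooseBasis Γ(X, X.basicOpen a) Γ(M, X.basicOpen a)
    exact ⟨_, ⟨b.equivFun.trans (LinearEquiv.funCongrLeft _ _
      (Fintype.equivFin (Module.Free.ChooseBasisIndex Γ(X, X.basicOpen a) Γ(M, X.basicOpen a))).symm)⟩⟩
  obtain ⟨e⟩ := hn
  obtain ⟨i⟩ := FlatLocus.nonempty_iso_freeMod M (hW.basicOpen a) n e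
  obtain rfl : n = r :=
    (PullbackMod.fibreRank_eq_of_freeAt M (PullbackMod.freeAt_of_restrict_iso M i (hxa z₀ hz₀))).symm.trans
      (PullbackMod.fibreRank_eq_of_freeAt M (hfree z₀))
  exact ⟨X.basicOpen a, hxa, X.basicOpen_le a, ⟨i⟩⟩

end Groth.Agent.FreeFiniteLib

namespace Groth.Agent.FreeFiniteLib

/-- Free modules restrict to free modules. -/
theorem nonempty_restrict_freeMod {Y' Y : Scheme.{u}} (v : Y' ⟶ Y) [IsOpenImmersion v] (n : ℕ) :
    Nonempty ((FlatMod.freeMod Y n).restrict v ≅ FlatMod.freeMod Y' n) := by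
  let F := Scheme.Modules.restrictFunctor v
  haveI : PreservesColimitsOfSize.{u, u} F :=
    (Scheme.Modules.restrictAdjunction v).leftAdjoint_preservesColimits
  exact ⟨F.mapIso (Sigma.whiskerEquiv (Equiv.ulift.{u, 0} (α := Fin n)) fun _ => Iso.refl _).symm ≪≫
    PreservesCoproduct.iso F _ ≪≫
    Sigma.whiskerEquiv (Equiv.ulift.{u, 0}) fun _ => (Scheme.Modules.restrictUnitIso v).symm⟩

/-- A module free on an open is free on every smaller open. -/
theorem nonempty_restrict_free_of_le {X : Scheme.{u}} (M : X.Modules) {U U' : X.Opens} (h : U ≤ U') {n : ℕ}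
    (e : M.restrict U'.ι ≅ FlatMod.freeMod (↑U') n) : Nonempty (M.restrict U.ι ≅ FlatMod.freeMod (↑U) n) := by
  obtain ⟨i⟩ := nonempty_restrict_freeMod (X.homOfLE h) n
  exact ⟨((Scheme.Modules.restrictFunctorComp (X.homOfLE h) U'.ι).symm ≪≫
    Scheme.Modules.restrictFunctorCongr (X.homOfLE_ι h)).symm.app M ≪≫
      (Scheme.Modules.restrictFunctor (X.homOfLE h)).mapIso e ≪≫ i⟩

end Groth.Agent.FreeFiniteLib
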